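import Mathlib

/-!
# Points of an affine group scheme with values in an arbitrary commutative algebra

Mathlib's `AlgHom.convGroup` asks the target to be a bialgebra.  Here we provide the inverse
`pinv` on the convolution monoid `WithConv (A →ₐ[R] X)` for any commutative `R`-algebra `X`.
-/

set_option autoImplicit false

namespace Groth.Agent.H78.HopfExt

open TensorProduct WithConv

variable {R A X Y : Type*} [CommRing R] [CommRing A] [HopfAlgebra R A] [CommRing X] [Algebra R X]
  [CommRing Y] [Algebra R Y]

/-- the inverse of a point. -/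
noncomputable def pinv (f : WithConv (A →ₐ[R] X)) : WithConv (A →ₐ[R] X) :=
  toConv (f.ofConv.comp (HopfAlgebra.antipodeAlgHom R A))

theorem comp_one (f : A →ₐ[R] X) :
    f.comp (1 : WithConv (A →ₐ[R] A)).ofConv = (1 : WithConv (A →ₐ[R] X)).ofConv := by
  ext a
  rw [AlgHom.comp_apply, AlgHom.convOne_apply, AlgHom.convOne_apply, AlgHom.commutes]

theorem pinv_mul (f : WithConv (A →ₐ[R] X)) : pinv f * f = 1 := by
  have key := AlgHom.comp_convMul_distrib f.ofConv (toConv (HopfAlgebra.antipodeAlgHom R A))
    (toConv (AlgHom.id R A))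
  rw [AlgHom.antipode_id_cancel, comp_one] at key
  apply WithConv.ofConv_injective
  rw [key]
  rfl

theorem mul_pinv (f : WithConv (A →ₐ[R] X)) : f * pinv f = 1 := by
  have h0 : toConv (AlgHom.id R A) * toConv (HopfAlgebra.antipodeAlgHom R A) = 1 := by
    have := AlgHom.antipode_id_cancel (R := R) (A := A)
    exact mul_eq_one_iff_eq_inv.mpr (mul_eq_one_iff_inv_eq.mp this).symm
  have key := AlgHom.comp_convMul_distrib f.ofConv (toConv (AlgHom.id R A))
    (toConv (HopfAlgebra.antipodeAlgHom R A))
  rw [h0, comp_one] at key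
  apply WithConv.ofConv_injective
  rw [key]
  rfl

theorem comp_pinv (h : X →ₐ[R] Y) (f : WithConv (A →ₐ[R] X)) :
    toConv (h.comp (pinv f).ofConv) = pinv (toConv (h.comp f.ofConv)) := rfl

theorem comp_mul (h : X →ₐ[R] Y) (f g : WithConv (A →ₐ[R] X)) :
    toConv (h.comp (f * g).ofConv) = toConv (h.comp f.ofConv) * toConv (h.comp g.ofConv) := by
  apply WithConv.ofConv_injective
  exact AlgHom.comp_convMul_distrib h f g

theorem pinv_mul_cancel_left (f g : WithConv (A →ₐ[R] X)) : pinv f * (f * g) = g := by
  rw [← mul_assoc, pinv_mul, one_mul]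

theorem mul_pinv_cancel_left (f g : WithConv (A →ₐ[R] X)) : f * (pinv f * g) = g := by
  rw [← mul_assoc, mul_pinv, one_mul]

section bialg

variable {C : Type*} [CommRing C] [Bialgebra R C]

theorem pmul_one (f : WithConv (C →ₐ[R] X)) : f * 1 = f := mul_one f

theorem pone_mul (f : WithConv (C →ₐ[R] X)) : 1 * f = f := one_mul f

theorem pmul_assoc (f g h : WithConv (C →ₐ[R] X)) : f * g * h = f * (g * h) := mul_assoc f g h

end bialg

end Groth.Agent.H78.HopfExt
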