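import Mathlib
import Groth.Prelude.Def_SGA3
import Groth.Agent.H15.Conv
import Groth.Agent.H78.HopfExt.Points

/-!
# The unit component of a finite group scheme over a local ring is normal (S15063)
-/

set_option autoImplicit false

namespace Groth.Agent.H78.HopfExt

open TensorProduct WithConv

universe u

theorem conv3_eq (k : Type u) [CommRing k] (A : Type u) [CommRing A] [HopfAlgebra k A]
    {C : Type u} [CommRing C] [Algebra k C] (f g h : A →ₐ[k] C) :
    Dyn.conv3 k A f g h = (toConv f * toConv g * toConv h).ofConv := by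
  rw [Groth.Agent.H15.conv3_eq_conv2]
  rfl

section

variable (R : Type u) [CommRing R] [Nontrivial R]
  (A : Type u) [CommRing A] [HopfAlgebra R A] [Module.Finite R A]
  (e : A) (he : IsIdempotentElem e) (hε : Bialgebra.counitAlgHom R A e = 1)
  [IsLocalRing (A ⧸ Ideal.span ({1 - e} : Set A))]

local notation "K" => Ideal.span ({1 - e} : Set A)
local notation "U" => (A ⊗[R] (A ⧸ Ideal.span ({1 - e} : Set A)))

/-- universal points -/
noncomputable def gu : A →ₐ[R] U := Algebra.TensorProduct.includeLeft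

noncomputable def hu : A →ₐ[R] U :=
  (Algebra.TensorProduct.includeRight : (A ⧸ K) →ₐ[R] U).comp (Ideal.Quotient.mkₐ R K)

/-- the universal conjugate `g h g⁻¹` -/
noncomputable def cu : A →ₐ[R] U :=
  (toConv (gu R A e) * toConv (hu R A e) * pinv (toConv (gu R A e))).ofConv

theorem includeRight_isIntegral :
    ((Algebra.TensorProduct.includeRight : (A ⧸ K) →ₐ[R] U) : (A ⧸ K) →+* U).IsIntegral := by
  intro x
  induction x using TensorProduct.induction_on with
  | zero => exact RingHom.isIntegralElem_zero _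
  | tmul a b =>
    have h1 : (a ⊗ₜ[R] b : U) = (a ⊗ₜ[R] (1 : A ⧸ K)) * ((1 : A) ⊗ₜ[R] b) := by
      rw [Algebra.TensorProduct.tmul_mul_tmul, mul_one, one_mul]
    rw [h1]
    refine RingHom.IsIntegralElem.mul _ ?_ ?_
    · -- a ⊗ 1 integral: a is integral over R
      obtain ⟨p, hp, hpa⟩ := Algebra.IsIntegral.isIntegral (R := R) a
      refine ⟨p.map (algebraMap R (A ⧸ K)), hp.map _, ?_⟩
      rw [Polynomial.eval₂_map]
      have h2 : ((Algebra.TensorProduct.includeRight : (A ⧸ K) →ₐ[R] U) : (A ⧸ K) →+* U).comp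
          (algebraMap R (A ⧸ K)) = ((gu R A e : A →+* U)).comp (algebraMap R A) := by
        ext r
        simp [gu]
      rw [h2]
      change Polynomial.eval₂ (((gu R A e : A →+* U)).comp (algebraMap R A))
        ((gu R A e : A →+* U) a) p = 0
      rw [← Polynomial.hom_eval₂, hpa, map_zero]
    · exact RingHom.isIntegralElem_map _
  | add x y hx hy => exact RingHom.IsIntegralElem.add _ hx hy

include hε in
theorem K_le_ker : K ≤ RingHom.ker (Bialgebra.counitAlgHom R A) := by
  rw [Ideal.span_le, Set.singleton_subset_iff]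
  change 1 - e ∈ RingHom.ker (Bialgebra.counitAlgHom R A)
  rw [RingHom.mem_ker, map_sub, map_one, hε, sub_self]

include hε in
/-- any `R`-algebra map out of `U` killing `1 ⊗ 𝔪` sends `cu e` to `1`. -/
theorem map_cu_e {X : Type u} [CommRing X] [Algebra R X] (q : U →ₐ[R] X)
    (hq : ∀ b ∈ IsLocalRing.maximalIdeal (A ⧸ K), q ((1 : A) ⊗ₜ[R] b) = 0) :
    q (cu R A e e) = 1 := by
  let εbar : (A ⧸ K) →ₐ[R] R := Ideal.Quotient.liftₐ K (Bialgebra.counitAlgHom R A)
    (fun a ha => K_le_ker R A e hε ha)
  have hεbar : ∀ a : A, εbar (Ideal.Quotient.mk K a) = Bialgebra.counitAlgHom R A a := fun a => rfl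
  have htriv : toConv (q.comp (hu R A e)) = (1 : WithConv (A →ₐ[R] X)) := by
    apply WithConv.ofConv_injective
    ext a
    rw [ofConv_toConv, AlgHom.convOne_apply]
    have h1 : Ideal.Quotient.mk K a - algebraMap R (A ⧸ K) (Bialgebra.counitAlgHom R A a) ∈
        IsLocalRing.maximalIdeal (A ⧸ K) := by
      refine IsLocalRing.le_maximalIdeal (RingHom.ker_ne_top εbar) ?_
      rw [RingHom.mem_ker, map_sub, hεbar, AlgHom.commutes]
      simp
    have h2 := hq _ h1
    rw [tmul_sub, map_sub, sub_eq_zero] at h2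
    change q ((1 : A) ⊗ₜ[R] Ideal.Quotient.mk K a) = _
    rw [h2, Algebra.algebraMap_eq_smul_one, TensorProduct.tmul_smul, map_smul,
      ← Algebra.TensorProduct.one_def, map_one, ← Algebra.algebraMap_eq_smul_one]
    rfl
  have hqc : toConv (q.comp (cu R A e)) = (1 : WithConv (A →ₐ[R] X)) := by
    have h1 := comp_mul q (toConv (gu R A e) * toConv (hu R A e)) (pinv (toConv (gu R A e)))
    have h2 := comp_mul q (toConv (gu R A e)) (toConv (hu R A e))
    change toConv (q.comp (cu R A e)) = _ at h1
    rw [h1, h2, comp_pinv]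
    change toConv (q.comp (gu R A e)) * toConv (q.comp (hu R A e)) *
      pinv (toConv (q.comp (gu R A e))) = 1
    rw [htriv, pmul_one, mul_pinv]
  have := congrArg (fun φ : WithConv (A →ₐ[R] X) => φ.ofConv e) hqc
  simp only [AlgHom.comp_apply] at this
  change q (cu R A e e) = _ at this
  rw [this, AlgHom.convOne_apply]
  change algebraMap R X (Bialgebra.counitAlgHom R A e) = 1
  rw [hε, map_one]

include he hε in
theorem cu_e : cu R A e e = 1 := by
  set x := cu R A e e with hx
  have hxi : IsIdempotentElem x := by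
    change x * x = x
    rw [hx, ← map_mul, he.eq]
  have hunit : IsUnit x := by
    by_contra hnu
    obtain ⟨M, hM, hxM⟩ := exists_max_ideal_of_mem_nonunits hnu
    have hMc : (M.comap ((Algebra.TensorProduct.includeRight : (A ⧸ K) →ₐ[R] U) :
        (A ⧸ K) →+* U)).IsMaximal :=
      Ideal.isMaximal_comap_of_isIntegral_of_isMaximal' _ (includeRight_isIntegral R A e) M
    have hMc' := IsLocalRing.eq_maximalIdeal hMc
    have hqx : Ideal.Quotient.mkₐ R M x = 1 := by
      apply map_cu_e R A e hε (X := U ⧸ M) (Ideal.Quotient.mkₐ R M)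
      intro b hb
      rw [← hMc', Ideal.mem_comap] at hb
      exact Ideal.Quotient.eq_zero_iff_mem.mpr hb
    have hqx0 : Ideal.Quotient.mkₐ R M x = 0 := Ideal.Quotient.eq_zero_iff_mem.mpr hxM
    rw [hqx0] at hqx
    haveI : Nontrivial (U ⧸ M) := Ideal.Quotient.nontrivial_iff.mpr hM.ne_top
    exact zero_ne_one hqx
  have : x * x = x * 1 := by rw [mul_one]; exact hxi
  exact hunit.mul_left_cancel this

include he hε in
theorem isNormalHopfIdeal : SGA3.IsNormalHopfIdeal R A (Ideal.span ({1 - e} : Set A)) := by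
  intro T _ _ g h hh a ha
  rw [conv3_eq]
  let hbar : (A ⧸ K) →ₐ[R] T := Ideal.Quotient.liftₐ K h hh
  let Θ : U →ₐ[R] T := Algebra.TensorProduct.lift g hbar (fun _ _ => Commute.all _ _)
  have hΘg : Θ.comp (gu R A e) = g := by
    ext a
    change Θ (a ⊗ₜ[R] (1 : A ⧸ Ideal.span ({1 - e} : Set A))) = g a
    rw [Algebra.TensorProduct.lift_tmul, map_one, mul_one]
  have hΘh : Θ.comp (hu R A e) = h := by
    ext a
    change Θ ((1 : A) ⊗ₜ[R] (Ideal.Quotient.mk (Ideal.span ({1 - e} : Set A)) a)) = h a
    rw [Algebra.TensorProduct.lift_tmul, map_one, one_mul]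
    rfl
  have hc : toConv (Θ.comp (cu R A e)) = toConv g * toConv h * pinv (toConv g) := by
    have h1 := comp_mul Θ (toConv (gu R A e) * toConv (hu R A e)) (pinv (toConv (gu R A e)))
    have h2 := comp_mul Θ (toConv (gu R A e)) (toConv (hu R A e))
    change toConv (Θ.comp (cu R A e)) = _ at h1
    rw [h1, h2, comp_pinv]
    change toConv (Θ.comp (gu R A e)) * toConv (Θ.comp (hu R A e)) *
      pinv (toConv (Θ.comp (gu R A e))) = _
    rw [hΘg, hΘh]
  have he1 : (toConv g * toConv h *
      toConv (g.comp (HopfAlgebra.antipodeAlgHom R A))).ofConv e = 1 := by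
    change (toConv g * toConv h * pinv (toConv g)).ofConv e = 1
    rw [← hc]
    change Θ (cu R A e e) = 1
    rw [cu_e R A e he hε, map_one]
  obtain ⟨r, rfl⟩ := Ideal.mem_span_singleton'.mp ha
  rw [map_mul, map_sub, map_one, he1, sub_self, mul_zero]

end

end Groth.Agent.H78.HopfExt
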