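import Mathlib
import Groth.Agent.H27.HopfEtale

/-!
# Extensions of finite flat group schemes (affine, Hopf-algebra form)

* `ker_sq_eq_of_formallyUnramified`: the kernel of an `R`-algebra retraction `S → R` of an
  unramified (ess. finite type) `R`-algebra is an idempotent ideal.
* `isLocalRing_of_ext`: `A'' → A` integral map, `A''` local, `A ⧸ I''A` local (`I''` proper) ⇒ `A` local.
* `etale_of_ext`: Hopf algebras `A'' → A` over `R` (finite projective), compatible with counits, with
  `A''` and `A ⧸ I''A` étale ⇒ `A` étale.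
-/

set_option autoImplicit false

namespace Groth.Agent.H78.HopfExt

open TensorProduct

universe u v

/-- the kernel of an `R`-algebra retraction of an unramified algebra is an idempotent ideal. -/
theorem ker_sq_eq_of_formallyUnramified {R : Type u} {S : Type v} [CommRing R] [CommRing S]
    [Algebra R S] [Algebra.EssFiniteType R S] [Algebra.FormallyUnramified R S] (ε : S →ₐ[R] R) :
    RingHom.ker ε ^ 2 = RingHom.ker ε := by
  let t := Algebra.FormallyUnramified.elem R S
  let φ : S ⊗[R] S →ₐ[R] S :=
    Algebra.TensorProduct.lift ((Algebra.ofId R S).comp ε) (AlgHom.id R S)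
      (fun _ _ => Commute.all _ _)
  have hφ : ∀ a b : S, φ (a ⊗ₜ b) = algebraMap R S (ε a) * b := fun a b => by
    simp [φ, Algebra.ofId_apply]
  let e := φ t
  have h1 : ∀ s, (s - algebraMap R S (ε s)) * e = 0 := by
    intro s
    have := congrArg φ (Algebra.FormallyUnramified.one_tmul_sub_tmul_one_mul_elem (R := R) s)
    rw [map_mul, map_sub, hφ, hφ, map_zero, map_one, map_one, one_mul, mul_one] at this
    exact this
  have h2 : ε e = 1 := by
    have hcomp : ε.comp φ = ε.comp (Algebra.TensorProduct.lmul' R) := by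
      apply Algebra.TensorProduct.ext'
      intro a b
      simp only [AlgHom.comp_apply, hφ, Algebra.TensorProduct.lmul'_apply_tmul, map_mul,
        AlgHom.commutes, Algebra.algebraMap_self_apply]
    have := congrArg (fun ψ : S ⊗[R] S →ₐ[R] R => ψ t) hcomp
    simp only [AlgHom.comp_apply] at this
    rw [this]
    change ε (Algebra.TensorProduct.lmul' R (Algebra.FormallyUnramified.elem R S)) = 1
    rw [Algebra.FormallyUnramified.lmul_elem, map_one]
  refine le_antisymm (Ideal.pow_le_self two_ne_zero) ?_
  intro x hx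
  have hx0 : ε x = 0 := hx
  have hxe : x * e = 0 := by
    have := h1 x
    rwa [hx0, map_zero, sub_zero] at this
  have h1e : 1 - e ∈ RingHom.ker ε := by
    rw [RingHom.mem_ker, map_sub, map_one, h2, sub_self]
  have hx' : x = x * (1 - e) := by rw [mul_sub, mul_one, hxe, sub_zero]
  rw [hx', pow_two]
  exact Ideal.mul_mem_mul hx h1e

/-- `A'' → A` integral, `A''` local, `I''` a proper ideal of `A''` with `A ⧸ I''A` local:
then `A` is local. -/
theorem isLocalRing_of_ext {A'' A : Type*} [CommRing A''] [CommRing A] [Algebra A'' A]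
    [Algebra.IsIntegral A'' A] [IsLocalRing A''] (I'' : Ideal A'') (hI'' : I'' ≠ ⊤)
    [IsLocalRing (A ⧸ I''.map (algebraMap A'' A))] : IsLocalRing A := by
  set J := I''.map (algebraMap A'' A) with hJ
  have hnt : Nontrivial A := by
    by_contra h
    rw [not_nontrivial_iff_subsingleton] at h
    have : Subsingleton (A ⧸ J) := (Ideal.Quotient.mk_surjective (I := J)).subsingleton
    exact not_subsingleton (A ⧸ J) this
  have key : ∀ M : Ideal A, M.IsMaximal →
      M = (IsLocalRing.maximalIdeal (A ⧸ J)).comap (Ideal.Quotient.mk J) := by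
    intro M hM
    have hM'' : (M.comap (algebraMap A'' A)).IsMaximal :=
      Ideal.isMaximal_comap_of_isIntegral_of_isMaximal M
    have h1 : M.comap (algebraMap A'' A) = IsLocalRing.maximalIdeal A'' :=
      IsLocalRing.eq_maximalIdeal hM''
    have h2 : J ≤ M := by
      rw [hJ, Ideal.map_le_iff_le_comap, h1]
      exact IsLocalRing.le_maximalIdeal hI''
    have h3 : (M.map (Ideal.Quotient.mk J)).IsMaximal :=
      Ideal.IsMaximal.map_of_surjective_of_ker_le Ideal.Quotient.mk_surjective
        (by rw [Ideal.mk_ker]; exact h2)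
    have h4 := IsLocalRing.eq_maximalIdeal h3
    rw [← h4, Ideal.comap_map_of_surjective _ Ideal.Quotient.mk_surjective,
      ← RingHom.ker_eq_comap_bot, Ideal.mk_ker, sup_eq_left.mpr h2]
  obtain ⟨M, hM⟩ := Ideal.exists_maximal A
  exact IsLocalRing.of_unique_max_ideal ⟨M, hM, fun M' hM' => by rw [key M' hM', key M hM]⟩

section etale

variable (R : Type u) [CommRing R] (A A'' : Type u) [CommRing A] [HopfAlgebra R A]
  [Module.Finite R A] [Module.Projective R A]
  [CommRing A''] [HopfAlgebra R A''] [Algebra A'' A] [IsScalarTower R A'' A]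

theorem etale_of_ext
    (hε : (Bialgebra.counitAlgHom R A).comp (IsScalarTower.toAlgHom R A'' A) =
      Bialgebra.counitAlgHom R A'')
    (h'' : Algebra.Etale R A'')
    (hq : Algebra.Etale R
      (A ⧸ (RingHom.ker (Bialgebra.counitAlgHom R A'')).map (algebraMap A'' A))) :
    Algebra.Etale R A := by
  set I'' := RingHom.ker (Bialgebra.counitAlgHom R A'') with hI''
  set J := I''.map (algebraMap A'' A) with hJ
  set I := RingHom.ker (Bialgebra.counitAlgHom R A) with hI
  have hJI : J ≤ I := by
    rw [hJ, Ideal.map_le_iff_le_comap]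
    intro c hc
    rw [Ideal.mem_comap, hI, RingHom.mem_ker]
    have := congrArg (fun ψ : A'' →ₐ[R] R => ψ c) hε
    simp only [AlgHom.comp_apply, IsScalarTower.coe_toAlgHom'] at this
    rw [this]
    exact hc
  -- I''² = I''
  have h1 : I'' ^ 2 = I'' := ker_sq_eq_of_formallyUnramified (Bialgebra.counitAlgHom R A'')
  have hJ2 : J ≤ I ^ 2 := by
    have : J = J ^ 2 := by rw [hJ, ← Ideal.map_pow, h1]
    rw [this]
    exact Ideal.pow_right_mono hJI 2
  -- the induced counit on the quotient
  let εbar : (A ⧸ J) →ₐ[R] R := Ideal.Quotient.liftₐ J (Bialgebra.counitAlgHom R A)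
    (fun a ha => hJI ha)
  have hεbar : ∀ a : A, εbar (Ideal.Quotient.mk J a) = Bialgebra.counitAlgHom R A a := fun a => rfl
  have h2 : RingHom.ker εbar ^ 2 = RingHom.ker εbar := ker_sq_eq_of_formallyUnramified εbar
  have h3 : RingHom.ker εbar = I.map (Ideal.Quotient.mk J) := by
    ext y
    obtain ⟨a, rfl⟩ := Ideal.Quotient.mk_surjective y
    rw [RingHom.mem_ker, hεbar, Ideal.mem_map_iff_of_surjective _ Ideal.Quotient.mk_surjective]
    constructor
    · intro h
      exact ⟨a, h, rfl⟩
    · rintro ⟨b, hb, hab⟩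
      have : a - b ∈ J := by
        rw [← Ideal.Quotient.eq_zero_iff_mem (I := J), map_sub, hab, sub_self]
      have hab' : a = b + (a - b) := by ring
      rw [hab']
      exact RingHom.mem_ker.mp (I.add_mem hb (hJI this))
  have h4 : I ≤ I ^ 2 := by
    intro x hx
    have hx1 : Ideal.Quotient.mk J x ∈ RingHom.ker εbar := by
      rw [h3]; exact Ideal.mem_map_of_mem _ hx
    rw [← h2, h3, ← Ideal.map_pow, Ideal.mem_map_iff_of_surjective _ Ideal.Quotient.mk_surjective]
      at hx1
    obtain ⟨y, hy, hxy⟩ := hx1
    have : x - y ∈ J := by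
      rw [← Ideal.Quotient.eq_zero_iff_mem (I := J), map_sub, hxy, sub_self]
    have hxy' : x = y + (x - y) := by ring
    rw [hxy']
    exact (I ^ 2).add_mem hy (hJ2 this)
  exact (Groth.Agent.H27.HopfEtale.etale_iff R A).mpr
    (le_antisymm (Ideal.pow_le_self two_ne_zero) h4)

end etale

end Groth.Agent.H78.HopfExt
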