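import Mathlib
import Groth.Agent.H3.EtaleLiftUnique

/-!
# Connected–étale: maps from étale Hopf algebras are invariant under the unit component,
maps to local Hopf algebras kill `1 - e`.
-/

set_option autoImplicit false

namespace Groth.Agent.H78.HopfExt

open TensorProduct

universe u

/-- an idempotent of a local ring whose image under a ring map to a nontrivial ring is `1`,
is `1`. -/
theorem idem_eq_one_of_map_eq_one {D R : Type*} [CommRing D] [IsLocalRing D] [CommRing R]
    [Nontrivial R] (ε : D →+* R) (x : D) (hx : IsIdempotentElem x) (h : ε x = 1) : x = 1 := by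
  rcases IsLocalRing.isUnit_or_isUnit_one_sub_self x with hu | hu
  · -- x unit and idempotent => x = 1
    have : x * x = x * 1 := by rw [mul_one]; exact hx
    exact hu.mul_left_cancel this
  · -- 1 - x unit, (1-x) x = 0 => x = 0, contradiction
    have h0 : (1 - x) * x = (1 - x) * 0 := by
      rw [mul_zero, sub_mul, one_mul, hx.eq, sub_self]
    have hx0 : x = 0 := hu.mul_left_cancel h0
    rw [hx0, map_zero] at h
    exact absurd h zero_ne_one

section

variable (R : Type u) [CommRing R] (A : Type u) [CommRing A] [HopfAlgebra R A]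

theorem lTensor_counit_eq (C : Type u) [CommRing C] [Bialgebra R C] (x : C ⊗[R] C) :
    (Algebra.TensorProduct.map (AlgHom.id R C) (Bialgebra.counitAlgHom R C)) x =
      (Coalgebra.counit (R := R) (A := C)).lTensor C x := by
  induction x using TensorProduct.induction_on with
  | zero => simp
  | tmul a b => simp
  | add x y hx hy => rw [map_add, map_add, hx, hy]

/-- A bialgebra map from a finite étale Hopf algebra `C` to `A` lands in the invariants under
the unit component `A ⧸ K`, provided `A ⧸ K` is local and the counit kills `K`. -/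
theorem map_mem_equalizer (K : Ideal A) [IsLocalRing (A ⧸ K)]
    (hK : K ≤ RingHom.ker (Bialgebra.counitAlgHom R A))
    (C : Type u) [CommRing C] [HopfAlgebra R C] [Algebra.Etale R C] (φ : C →ₐc[R] A) (c : C) :
    φ c ∈ (AlgHom.equalizer
      ((Algebra.TensorProduct.map (AlgHom.id R A) (Ideal.Quotient.mkₐ R K)).comp
        (Bialgebra.comulAlgHom R A))
      (Algebra.TensorProduct.includeLeft : A →ₐ[R] A ⊗[R] (A ⧸ K))) := by
  let π : A →ₐ[R] A ⧸ K := Ideal.Quotient.mkₐ R K
  let εbar : (A ⧸ K) →ₐ[R] R := Ideal.Quotient.liftₐ K (Bialgebra.counitAlgHom R A)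
    (fun a ha => hK ha)
  have hεbar : ∀ a : A, εbar (π a) = Bialgebra.counitAlgHom R A a := fun a => rfl
  let φa : C →ₐ[R] A := (φ : C →ₐ[R] A)
  have hφa : ∀ x, φa x = φ x := fun x => rfl
  -- the two maps C → A ⧸ K
  let f : C →ₐ[R] A ⧸ K := π.comp φa
  let g : C →ₐ[R] A ⧸ K := (Algebra.ofId R (A ⧸ K)).comp (Bialgebra.counitAlgHom R C)
  haveI : Nontrivial R := (algebraMap R (A ⧸ K)).domain_nontrivial
  have hker : RingHom.ker εbar ≤ Ideal.jacobson ⊥ := by
    rw [IsLocalRing.jacobson_eq_maximalIdeal ⊥ bot_ne_top]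
    exact IsLocalRing.le_maximalIdeal (RingHom.ker_ne_top _)
  have hfg : f = g := by
    apply Groth.Agent.H3.EtaleLift.algHom_eq_of_unramified (RingHom.ker εbar) hker
    intro x
    rw [RingHom.mem_ker, map_sub, sub_eq_zero]
    change εbar (π (φa x)) = εbar (algebraMap R (A ⧸ K) (Bialgebra.counitAlgHom R C x))
    rw [hεbar, AlgHom.commutes, hφa]
    exact CoalgHomClass.counit_comp_apply φ x
  rw [AlgHom.mem_equalizer]
  -- compute
  have h0 : ∀ x : C ⊗[R] C, TensorProduct.map (φ : C →ₗ[R] A) (φ : C →ₗ[R] A) x =
      Algebra.TensorProduct.map φa φa x := by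
    intro x
    induction x using TensorProduct.induction_on with
    | zero => simp
    | tmul a b => simp [φa]
    | add x y hx hy => rw [map_add, map_add, hx, hy]
  have h1 : Bialgebra.comulAlgHom R A (φ c) =
      Algebra.TensorProduct.map φa φa (Bialgebra.comulAlgHom R C c) := by
    have := CoalgHomClass.map_comp_comul_apply φ c
    change Coalgebra.comul (φ c) = _
    rw [← this]
    exact h0 _
  rw [AlgHom.comp_apply, h1]
  have h2 : ∀ x : C ⊗[R] C, (Algebra.TensorProduct.map (AlgHom.id R A) π)
      (Algebra.TensorProduct.map φa φa x) =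
      (Algebra.TensorProduct.map φa (Algebra.ofId R (A ⧸ K)))
        ((Algebra.TensorProduct.map (AlgHom.id R C) (Bialgebra.counitAlgHom R C)) x) := by
    intro x
    have e1 : (Algebra.TensorProduct.map (AlgHom.id R A) π).comp (Algebra.TensorProduct.map φa φa)
        = Algebra.TensorProduct.map φa f := by
      rw [← Algebra.TensorProduct.map_comp, AlgHom.id_comp]
    have e2 : (Algebra.TensorProduct.map φa (Algebra.ofId R (A ⧸ K))).comp
        (Algebra.TensorProduct.map (AlgHom.id R C) (Bialgebra.counitAlgHom R C))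
        = Algebra.TensorProduct.map φa g := by
      rw [← Algebra.TensorProduct.map_comp, AlgHom.comp_id]
    have e3 : Algebra.TensorProduct.map φa f = Algebra.TensorProduct.map φa g := by rw [hfg]
    have := congrArg (fun ψ : C ⊗[R] C →ₐ[R] A ⊗[R] (A ⧸ K) => ψ x) (e1.trans (e3.trans e2.symm))
    exact this
  rw [h2, lTensor_counit_eq]
  change (Algebra.TensorProduct.map φa (Algebra.ofId R (A ⧸ K)))
    ((Coalgebra.counit (R := R) (A := C)).lTensor C (Coalgebra.comul c)) = _
  rw [Coalgebra.lTensor_counit_comul]
  simp [φa]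

end

end Groth.Agent.H78.HopfExt
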