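import Mathlib
import Groth.Agent.H78.HopfExt.Points

/-!
# The torsor isomorphism `A ⊗[A''] A ≃ₐ[A] A ⊗[R] (A ⧸ I''A)` for a map of Hopf algebras `A'' → A`

and the consequence: if `A` is faithfully flat over `A''` and the kernel `A ⧸ I''A` is étale over
`R`, then `A` is étale over `A''`.
-/

set_option autoImplicit false

namespace Groth.Agent.H78.HopfExt

open TensorProduct WithConv

universe u

section torsor

variable (R : Type u) [CommRing R] (A A'' : Type u) [CommRing A] [HopfAlgebra R A]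
  [CommRing A''] [HopfAlgebra R A''] [Algebra A'' A] [IsScalarTower R A'' A]

/-- the structure map as an `R`-algebra hom -/
local notation "ι" => IsScalarTower.toAlgHom R A'' A

/-- the ideal of the kernel -/
abbrev JJ : Ideal A := (RingHom.ker (Bialgebra.counitAlgHom R A'')).map (algebraMap A'' A)

variable {R A A''}
variable
  (hΔ : (Bialgebra.comulAlgHom R A).comp (IsScalarTower.toAlgHom R A'' A) =
      (Algebra.TensorProduct.map (IsScalarTower.toAlgHom R A'' A)
        (IsScalarTower.toAlgHom R A'' A)).comp (Bialgebra.comulAlgHom R A''))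
  (hε : (Bialgebra.counitAlgHom R A).comp (IsScalarTower.toAlgHom R A'' A) =
      Bialgebra.counitAlgHom R A'')

include hΔ hε in
theorem restrict_mul {X : Type*} [CommRing X] [Algebra R X] (f g : WithConv (A →ₐ[R] X)) :
    toConv ((f * g).ofConv.comp ι) = toConv (f.ofConv.comp ι) * toConv (g.ofConv.comp ι) := by
  apply WithConv.ofConv_injective
  exact AlgHom.convMul_comp_bialgHom_distrib f g (BialgHom.ofAlgHom ι hε hΔ.symm)

theorem trivial_of_kills {X : Type*} [CommRing X] [Algebra R X] (h : A →ₐ[R] X)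
    (hJ : ∀ a ∈ JJ R A A'', h a = 0) :
    toConv (h.comp ι) = (1 : WithConv (A'' →ₐ[R] X)) := by
  apply WithConv.ofConv_injective
  ext c
  change h (algebraMap A'' A c) = _
  rw [AlgHom.convOne_apply]
  have hc : c - algebraMap R A'' (Coalgebra.counit c) ∈
      RingHom.ker (Bialgebra.counitAlgHom R A'') := by
    rw [RingHom.mem_ker, map_sub, AlgHom.commutes]
    simp
  have h1 := hJ _ (Ideal.mem_map_of_mem (algebraMap A'' A) hc)
  rw [map_sub, map_sub, sub_eq_zero, ← IsScalarTower.algebraMap_apply, AlgHom.commutes] at h1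
  exact h1

theorem kills_of_trivial {X : Type*} [CommRing X] [Algebra R X] (h : A →ₐ[R] X)
    (ht : toConv (h.comp ι) = (1 : WithConv (A'' →ₐ[R] X))) :
    ∀ a ∈ JJ R A A'', h a = 0 := by
  have hle : JJ R A A'' ≤ RingHom.ker h := by
    rw [JJ, Ideal.map_le_iff_le_comap]
    intro c hc
    rw [Ideal.mem_comap, RingHom.mem_ker]
    have := congrArg (fun φ : WithConv (A'' →ₐ[R] X) => φ.ofConv c) ht
    simp only [ofConv_toConv, AlgHom.comp_apply, AlgHom.convOne_apply] at this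
    rw [IsScalarTower.coe_toAlgHom'] at this
    rw [this]
    have hc' : Coalgebra.counit (R := R) c = 0 := hc
    rw [hc', map_zero]
  intro a ha
  exact hle ha

/-! ### the two algebras -/

/-- `G ×_{G''} G` -/
abbrev T1 (R A A'' : Type u) [CommRing R] [CommRing A] [HopfAlgebra R A] [CommRing A'']
    [HopfAlgebra R A''] [Algebra A'' A] [IsScalarTower R A'' A] := A ⊗[A''] A

/-- `G × G'` -/
abbrev T2 (R A A'' : Type u) [CommRing R] [CommRing A] [HopfAlgebra R A] [CommRing A'']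
    [HopfAlgebra R A''] [Algebra A'' A] [IsScalarTower R A'' A] := A ⊗[R] (A ⧸ JJ R A A'')

/-- first projection point of `T1` -/
noncomputable def g₁ : A →ₐ[R] T1 R A A'' := Algebra.TensorProduct.includeLeft

/-- second projection point of `T1` -/
noncomputable def f₁ : A →ₐ[R] T1 R A A'' :=
  (Algebra.TensorProduct.includeRight : A →ₐ[A''] A ⊗[A''] A).restrictScalars R

/-- first projection point of `T2` -/
noncomputable def g₂ : A →ₐ[R] T2 R A A'' := Algebra.TensorProduct.includeLeft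

/-- second projection point of `T2` (a point of the kernel) -/
noncomputable def h₂ : A →ₐ[R] T2 R A A'' :=
  (Algebra.TensorProduct.includeRight : (A ⧸ JJ R A A'') →ₐ[R] T2 R A A'').comp
    (Ideal.Quotient.mkₐ R (JJ R A A''))

theorem g₁_comp_iota : (g₁ (R := R) (A := A) (A'' := A'')).comp ι = f₁.comp ι := by
  ext c
  change (algebraMap A'' A c) ⊗ₜ[A''] (1 : A) = (1 : A) ⊗ₜ[A''] (algebraMap A'' A c)
  rw [Algebra.algebraMap_eq_smul_one, TensorProduct.smul_tmul]

theorem h₂_kills : ∀ a ∈ JJ R A A'', h₂ (R := R) (A := A) (A'' := A'') a = 0 := by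
  intro a ha
  change (1 : A) ⊗ₜ[R] (Ideal.Quotient.mk (JJ R A A'') a) = 0
  rw [Ideal.Quotient.eq_zero_iff_mem.mpr ha, tmul_zero]

/-- the point `g₂ * h₂` of `G` with values in `T2` -/
noncomputable def p₂ : A →ₐ[R] T2 R A A'' :=
  (toConv (g₂ (R := R) (A := A) (A'' := A'')) * toConv h₂).ofConv

/-- the point `g₁⁻¹ * f₁` of `G` with values in `T1` -/
noncomputable def q₁ : A →ₐ[R] T1 R A A'' :=
  (pinv (toConv (g₁ (R := R) (A := A) (A'' := A''))) * toConv f₁).ofConv

include hΔ hε in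
theorem p₂_comp_iota : (p₂ (R := R) (A := A) (A'' := A'')).comp ι = g₂.comp ι := by
  have h1 : toConv ((h₂ (R := R) (A := A) (A'' := A'')).comp ι) =
      (1 : WithConv (A'' →ₐ[R] T2 R A A'')) :=
    trivial_of_kills (X := T2 R A A'') (h₂ (R := R) (A := A) (A'' := A''))
      (h₂_kills (R := R) (A := A) (A'' := A''))
  have := restrict_mul hΔ hε (toConv (g₂ (R := R) (A := A) (A'' := A''))) (toConv h₂)
  change toConv ((p₂ (R := R) (A := A) (A'' := A'')).comp ι) =
    toConv (g₂.comp ι) * toConv (h₂.comp ι) at this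
  rw [h1] at this
  exact WithConv.toConv_injective (this.trans (pmul_one _))

include hε in
theorem restrict_one {X : Type*} [CommRing X] [Algebra R X] :
    toConv ((1 : WithConv (A →ₐ[R] X)).ofConv.comp ι) = (1 : WithConv (A'' →ₐ[R] X)) := by
  apply WithConv.ofConv_injective
  ext c
  rw [ofConv_toConv, AlgHom.comp_apply, AlgHom.convOne_apply, AlgHom.convOne_apply]
  have := congrArg (fun ψ : A'' →ₐ[R] R => ψ c) hε
  simp only [AlgHom.comp_apply] at this
  change algebraMap R X (Bialgebra.counitAlgHom R A (ι c)) = _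
  rw [this]
  rfl

include hΔ hε in
theorem q₁_kills : ∀ a ∈ JJ R A A'', q₁ (R := R) (A := A) (A'' := A'') a = 0 := by
  apply kills_of_trivial
  have h1 := restrict_mul hΔ hε (pinv (toConv (g₁ (R := R) (A := A) (A'' := A'')))) (toConv f₁)
  have h2 := restrict_mul hΔ hε (pinv (toConv (g₁ (R := R) (A := A) (A'' := A''))))
    (toConv g₁)
  rw [pinv_mul, restrict_one hε] at h2
  change (1 : WithConv (A'' →ₐ[R] T1 R A A'')) =
    toConv ((pinv (toConv (g₁ (R := R) (A := A) (A'' := A'')))).ofConv.comp ι) *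
      toConv (g₁.comp ι) at h2
  rw [g₁_comp_iota] at h2
  change toConv ((q₁ (R := R) (A := A) (A'' := A'')).comp ι) =
    toConv ((pinv (toConv (g₁ (R := R) (A := A) (A'' := A'')))).ofConv.comp ι) *
      toConv (f₁.comp ι) at h1
  rw [h1]
  exact h2.symm

/-- the kernel point `A ⧸ J → T1` -/
noncomputable def hbar : (A ⧸ JJ R A A'') →ₐ[R] T1 R A A'' :=
  Ideal.Quotient.liftₐ (JJ R A A'') q₁ (q₁_kills hΔ hε)

/-- `T1 → T2`, `(g, f) ↦ (g, g⁻¹ f)` on points -/
noncomputable def Φ : T1 R A A'' →ₐ[A] T2 R A A'' :=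
  Algebra.TensorProduct.lift (Algebra.ofId A (T2 R A A''))
    ({ toRingHom := (p₂ (R := R) (A := A) (A'' := A'')).toRingHom
       commutes' := fun c => by
        have := congrArg (fun ψ : A'' →ₐ[R] T2 R A A'' => ψ c) (p₂_comp_iota hΔ hε)
        exact this } : A →ₐ[A''] T2 R A A'')
    (fun _ _ => Commute.all _ _)

/-- `T2 → T1`, `(g, h) ↦ (g, g h)` on points -/
noncomputable def Ψ : T2 R A A'' →ₐ[A] T1 R A A'' :=
  Algebra.TensorProduct.lift (Algebra.ofId A (T1 R A A'')) (hbar hΔ hε)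
    (fun _ _ => Commute.all _ _)

theorem Φ_tmul (a b : A) :
    Φ hΔ hε (a ⊗ₜ[A''] b) = (a ⊗ₜ[R] (1 : A ⧸ JJ R A A'')) * p₂ b := by
  rw [Φ, Algebra.TensorProduct.lift_tmul]
  rfl

theorem Ψ_tmul (a : A) (b : A ⧸ JJ R A A'') :
    Ψ hΔ hε (a ⊗ₜ[R] b) = (a ⊗ₜ[A''] (1 : A)) * hbar hΔ hε b := by
  rw [Ψ, Algebra.TensorProduct.lift_tmul]
  rfl

theorem ΦR_comp_g₁ : ((Φ hΔ hε).restrictScalars R).comp g₁ = g₂ := by
  ext a
  change Φ hΔ hε (a ⊗ₜ[A''] (1 : A)) = a ⊗ₜ[R] (1 : A ⧸ JJ R A A'')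
  rw [Φ_tmul, map_one, mul_one]

theorem ΦR_comp_f₁ : ((Φ hΔ hε).restrictScalars R).comp f₁ = p₂ := by
  ext b
  change Φ hΔ hε ((1 : A) ⊗ₜ[A''] b) = p₂ b
  rw [Φ_tmul, ← Algebra.TensorProduct.one_def, one_mul]

theorem ΨR_comp_g₂ : ((Ψ hΔ hε).restrictScalars R).comp g₂ = g₁ := by
  ext a
  change Ψ hΔ hε (a ⊗ₜ[R] (1 : A ⧸ JJ R A A'')) = a ⊗ₜ[A''] (1 : A)
  rw [Ψ_tmul, map_one, mul_one]

theorem ΨR_comp_h₂ : ((Ψ hΔ hε).restrictScalars R).comp h₂ = q₁ := by
  ext b
  change Ψ hΔ hε ((1 : A) ⊗ₜ[R] (Ideal.Quotient.mk (JJ R A A'') b)) = q₁ b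
  rw [Ψ_tmul, ← Algebra.TensorProduct.one_def, one_mul]
  rfl

theorem ΨΦ_f₁ : ((Ψ hΔ hε).restrictScalars R).comp (((Φ hΔ hε).restrictScalars R).comp f₁) = f₁ := by
  rw [ΦR_comp_f₁]
  have h := comp_mul ((Ψ hΔ hε).restrictScalars R) (toConv (g₂ (R := R) (A := A) (A'' := A'')))
    (toConv h₂)
  change toConv (((Ψ hΔ hε).restrictScalars R).comp p₂) =
    toConv (((Ψ hΔ hε).restrictScalars R).comp g₂) *
      toConv (((Ψ hΔ hε).restrictScalars R).comp h₂) at h
  rw [ΨR_comp_g₂, ΨR_comp_h₂] at h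
  apply WithConv.toConv_injective
  rw [h]
  exact mul_pinv_cancel_left (toConv g₁) (toConv f₁)

theorem ΦΨ_h₂ : ((Φ hΔ hε).restrictScalars R).comp (((Ψ hΔ hε).restrictScalars R).comp h₂) = h₂ := by
  rw [ΨR_comp_h₂]
  have h := comp_mul ((Φ hΔ hε).restrictScalars R)
    (pinv (toConv (g₁ (R := R) (A := A) (A'' := A'')))) (toConv f₁)
  rw [comp_pinv] at h
  change toConv (((Φ hΔ hε).restrictScalars R).comp q₁) =
    pinv (toConv (((Φ hΔ hε).restrictScalars R).comp g₁)) *
      toConv (((Φ hΔ hε).restrictScalars R).comp f₁) at h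
  rw [ΦR_comp_g₁, ΦR_comp_f₁] at h
  apply WithConv.toConv_injective
  rw [h]
  have hp : toConv (p₂ (R := R) (A := A) (A'' := A'')) = toConv g₂ * toConv h₂ := by
    unfold p₂
    exact WithConv.toConv_ofConv _
  rw [hp]
  have key := pinv_mul_cancel_left (toConv (g₂ (R := R) (A := A) (A'' := A''))) (toConv h₂)
  exact key

theorem Ψ_comp_Φ : (Ψ hΔ hε).comp (Φ hΔ hε) = AlgHom.id A (T1 R A A'') := by
  apply Algebra.TensorProduct.ext
  · ext
  · ext b
    have := congrArg (fun ψ : A →ₐ[R] T1 R A A'' => ψ b) (ΨΦ_f₁ hΔ hε)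
    exact this

theorem Φ_comp_Ψ : (Φ hΔ hε).comp (Ψ hΔ hε) = AlgHom.id A (T2 R A A'') := by
  apply Algebra.TensorProduct.ext
  · ext
  · apply Ideal.Quotient.algHom_ext
    ext b
    have := congrArg (fun ψ : A →ₐ[R] T2 R A A'' => ψ b) (ΦΨ_h₂ hΔ hε)
    exact this

/-- the torsor isomorphism -/
noncomputable def torsorEquiv : T1 R A A'' ≃ₐ[A] T2 R A A'' :=
  AlgEquiv.ofAlgHom (Φ hΔ hε) (Ψ hΔ hε) (Φ_comp_Ψ hΔ hε) (Ψ_comp_Φ hΔ hε)

include hΔ hε in
/-- If `A` is faithfully flat over `A''` and the kernel is étale over `R`, then `A` is étale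
over `A''`. -/
theorem etale_of_kernel_etale [Module.FaithfullyFlat A'' A]
    [Algebra.Etale R (A ⧸ JJ R A A'')] : Algebra.Etale A'' A := by
  haveI : Algebra.Etale A (T2 R A A'') := inferInstance
  haveI : Algebra.Etale A (A ⊗[A''] A) := Algebra.Etale.of_equiv (torsorEquiv hΔ hε).symm
  exact Algebra.Etale.of_etale_tensorProduct_of_faithfullyFlat (R := A'') (S := A) A

end torsor

end Groth.Agent.H78.HopfExt
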