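import Mathlib
import Groth.Agent.H74.HopfTrace
import Groth.Agent.H14.TraceForm

/-!
# A finite Hopf algebra over a field whose rank is invertible is étale

Helper library of helper78.  Uses helper74's shear/trace library: the radical of the trace form of
a finite-dimensional commutative Hopf algebra is an ideal and a subcoalgebra; if `dim A ≠ 0` in `K`
the counit vanishes on it, hence it is zero, hence the trace form is perfect and `A` is étale
(helper14/helper11: étale iff trace form bijective).
-/

namespace Groth.Agent.H78.HopfExt.TraceEtale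

open TensorProduct Coalgebra Bialgebra HopfAlgebra
open Groth.Agent.H74.HopfTrace Groth.Agent.H74.Coalg

universe u v

variable {K : Type u} {A : Type v} [Field K] [CommRing A] [HopfAlgebra K A] [Module.Finite K A]

/-- radical of the form `(a, b) ↦ Tr (a * S b)` -/
noncomputable def Rad : Submodule K A := (Bf (K := K) (A := A)).orthogonal ⊤

lemma mem_Rad {x : A} : x ∈ Rad (K := K) ↔ ∀ n : A, Algebra.trace K A (n * antipode K x) = 0 := by
  unfold Rad
  rw [LinearMap.BilinForm.mem_orthogonal_iff]
  constructor
  · intro h n
    have := h n Submodule.mem_top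
    rwa [Bf_apply] at this
  · intro h n _
    rw [Bf_apply]
    exact h n

lemma mem_Rad' {x : A} : x ∈ Rad (K := K) ↔ ∀ n : A, Algebra.trace K A (n * x) = 0 := by
  rw [mem_Rad]
  constructor
  · intro h n
    have := h (antipode K n)
    rwa [← antipode_mul_distrib, trace_antipode] at this
  · intro h n
    have := h (antipode K n)
    rwa [← trace_antipode, antipode_mul_distrib, antipode_antipode_apply] at this

lemma Rad_isSubcoalg : IsSubcoalg (Rad (K := K) (A := A)) :=
  (isStable_orthogonal isStable_top).isSubcoalg

lemma mul_mem_Rad {x : A} (hx : x ∈ Rad (K := K)) (a : A) : a * x ∈ Rad (K := K) := by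
  rw [mem_Rad'] at hx ⊢
  intro n
  rw [← mul_assoc]
  exact hx _

lemma counit_eq_zero_of_mem_Rad (h : (Module.finrank K A : K) ≠ 0) {x : A}
    (hx : x ∈ Rad (K := K)) : counit (R := K) x = 0 := by
  obtain ⟨t, ht⟩ := Rad_isSubcoalg x hx
  have h1 : LinearMap.mul' K A ((antipode K).rTensor A (comul x)) =
      algebraMap K A (counit x) := HopfAlgebra.mul_antipode_rTensor_comul_apply x
  have h2 : ∀ t : (Rad (K := K) (A := A)) ⊗[K] (Rad (K := K) (A := A)),
      LinearMap.mul' K A ((antipode K).rTensor A
        (TensorProduct.map (Rad (K := K) (A := A)).subtype (Rad (K := K) (A := A)).subtype t))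
        ∈ Rad (K := K) (A := A) := by
    intro t
    induction t with
    | zero => simp
    | tmul r s =>
      simp only [TensorProduct.map_tmul, Submodule.subtype_apply, LinearMap.rTensor_tmul,
        LinearMap.mul'_apply]
      exact mul_mem_Rad s.2 _
    | add a b ha hb =>
      simp only [map_add]
      exact Submodule.add_mem _ ha hb
  have h3 : algebraMap K A (counit x) ∈ Rad (K := K) (A := A) := by
    rw [← h1, ← ht]
    exact h2 t
  rw [mem_Rad'] at h3
  have h4 := h3 1
  rw [one_mul, Algebra.trace_algebraMap, nsmul_eq_mul] at h4
  rcases mul_eq_zero.mp h4 with h5 | h5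
  · exact absurd h5 h
  · exact h5

lemma Rad_eq_bot (h : (Module.finrank K A : K) ≠ 0) : Rad (K := K) (A := A) = ⊥ := by
  rw [eq_bot_iff]
  intro x hx
  rw [Submodule.mem_bot]
  exact Rad_isSubcoalg.eq_zero_of_counit_eq_zero
    (fun d hd => counit_eq_zero_of_mem_Rad h hd) hx

lemma traceForm_injective (h : (Module.finrank K A : K) ≠ 0) :
    Function.Injective (Algebra.traceForm K A) := by
  rw [injective_iff_map_eq_zero]
  intro x hx
  have : x ∈ Rad (K := K) (A := A) := by
    rw [mem_Rad']
    intro n
    have := LinearMap.congr_fun hx n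
    rw [Algebra.traceForm_apply] at this
    rw [mul_comm]
    simpa using this
  rw [Rad_eq_bot h] at this
  simpa using this

lemma traceForm_bijective (h : (Module.finrank K A : K) ≠ 0) :
    Function.Bijective (Algebra.traceForm K A) := by
  refine ⟨traceForm_injective h, ?_⟩
  have hinj := traceForm_injective (K := K) (A := A) h
  have hd : Module.finrank K A = Module.finrank K (Module.Dual K A) :=
    (Subspace.dual_finrank_eq).symm
  exact (LinearMap.injective_iff_surjective_of_finrank_eq_finrank hd).mp hinj

end Groth.Agent.H78.HopfExt.TraceEtale
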