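import Mathlib
import Groth.Prelude.Def_CartDual
import Groth.Agent.H78.HopfExt.TraceEtale

open TensorProduct Coalgebra Bialgebra HopfAlgebra
open Groth.Agent.H74.HopfTrace Groth.Agent.H74.Coalg Groth.Agent.H78.HopfExt.TraceEtale

universe u v

namespace Groth.Agent.H78.HopfExt.TraceDual

section
variable {K : Type u} {A : Type v} [Field K] [CommRing A] [HopfAlgebra K A] [Module.Finite K A]

/-- the trace is an integral: `∑ a₁ Tr(a₂) = Tr(a) • 1` -/
lemma τ_comul (a : A) : τ (K := K) (comul a) = Algebra.trace K A a • (1 : A) := by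
  have h1 : φK (K := K) ((1 : A) ⊗ₜ[K] a) = comul a := by
    have : ((1 : A) ⊗ₜ[K] (1 : A)) = (1 : A ⊗[K] A) := rfl
    simp [φK, this]
  rw [← h1, τ_φK, τ_tmul]

lemma trace_τ (t : A ⊗[K] A) :
    Algebra.trace K A (τ (K := K) t) =
      LinearMap.mul' K K (TensorProduct.map (Algebra.trace K A) (Algebra.trace K A) t) := by
  induction t with
  | zero => simp
  | tmul x y => simp [τ_tmul, mul_comm]
  | add x y hx hy => simp only [map_add, hx, hy]

/-- the trace is idempotent up to `dim A` in the convolution algebra of the dual -/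
lemma trace_conv_trace :
    (WithConv.toConv (Algebra.trace K A) * WithConv.toConv (Algebra.trace K A) :
      WithConv (A →ₗ[K] K)) = (Module.finrank K A : K) • WithConv.toConv (Algebra.trace K A) := by
  apply WithConv.ofConv_injective
  ext a
  rw [LinearMap.convMul_apply]
  simp only [WithConv.ofConv_toConv]
  rw [← trace_τ, τ_comul, map_smul]
  change _ = (Module.finrank K A : K) • (Algebra.trace K A) a
  have h1 : Algebra.trace K A (1 : A) = (Module.finrank K A : K) := by
    have := Algebra.trace_algebraMap (R := K) (S := A) (1 : K)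
    rw [map_one] at this
    rw [this]; simp
  rw [h1, smul_eq_mul, smul_eq_mul, mul_comm]

end

end Groth.Agent.H78.HopfExt.TraceDual
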