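import Mathlib
import Groth.Agent.H78.HopfExt.Basic

/-!
# The unit component of an extension of a connected group by an étale group maps isomorphically
onto the quotient (S15068).
-/

set_option autoImplicit false

namespace Groth.Agent.H78.HopfExt

open TensorProduct

universe u

section

variable (R : Type u) [CommRing R] [IsLocalRing R] [IsNoetherianRing R]
  (A A'' : Type u) [CommRing A] [HopfAlgebra R A] [Module.Finite R A]
  [CommRing A''] [HopfAlgebra R A''] [Algebra A'' A] [IsScalarTower R A'' A]

/-- `A ⧸ (I''A + K)` has trivial augmentation ideal when `A ⧸ I''A` is unramified and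
`A ⧸ K` is local. -/
theorem sub_counit_mem_sup
    (hε : (Bialgebra.counitAlgHom R A).comp (IsScalarTower.toAlgHom R A'' A) =
      Bialgebra.counitAlgHom R A'')
    [Algebra.FormallyUnramified R
      (A ⧸ (RingHom.ker (Bialgebra.counitAlgHom R A'')).map (algebraMap A'' A))]
    (K : Ideal A) (hK : K ≤ RingHom.ker (Bialgebra.counitAlgHom R A)) [IsLocalRing (A ⧸ K)]
    (a : A) :
    a - algebraMap R A (Bialgebra.counitAlgHom R A a) ∈
      (RingHom.ker (Bialgebra.counitAlgHom R A'')).map (algebraMap A'' A) ⊔ K := by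
  set J := (RingHom.ker (Bialgebra.counitAlgHom R A'')).map (algebraMap A'' A) with hJ
  have hJI : J ≤ RingHom.ker (Bialgebra.counitAlgHom R A) := by
    rw [hJ, Ideal.map_le_iff_le_comap]
    intro c hc
    rw [Ideal.mem_comap, RingHom.mem_ker]
    have := congrArg (fun ψ : A'' →ₐ[R] R => ψ c) hε
    simp only [AlgHom.comp_apply, IsScalarTower.coe_toAlgHom'] at this
    rw [this]
    exact hc
  have hJK : J ⊔ K ≤ RingHom.ker (Bialgebra.counitAlgHom R A) := sup_le hJI hK
  -- the quotient Q
  let Q := A ⧸ (J ⊔ K)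
  let εQ : Q →ₐ[R] R := Ideal.Quotient.liftₐ (J ⊔ K) (Bialgebra.counitAlgHom R A)
    (fun a ha => hJK ha)
  have hεQ : ∀ a : A, εQ (Ideal.Quotient.mk (J ⊔ K) a) = Bialgebra.counitAlgHom R A a :=
    fun a => rfl
  -- Q is unramified over R
  let p : (A ⧸ J) →ₐ[R] Q := Ideal.Quotient.factorₐ R (le_sup_left : J ≤ J ⊔ K)
  have hp : Function.Surjective p := Ideal.Quotient.factor_surjective le_sup_left
  haveI : Algebra.FormallyUnramified R Q := Algebra.FormallyUnramified.of_surjective p hp
  haveI : Algebra.FiniteType R Q := inferInstance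
  have h1 : RingHom.ker εQ ^ 2 = RingHom.ker εQ := ker_sq_eq_of_formallyUnramified εQ
  -- Q is local
  haveI : Nontrivial Q := by
    refine ⟨⟨0, 1, fun h => ?_⟩⟩
    have := congrArg εQ h
    rw [map_zero, map_one] at this
    exact zero_ne_one this
  let p' : (A ⧸ K) →+* Q := Ideal.Quotient.factor (le_sup_right : K ≤ J ⊔ K)
  have hp' : Function.Surjective p' := Ideal.Quotient.factor_surjective le_sup_right
  haveI : IsLocalRing Q := IsLocalRing.of_surjective' p' hp'
  -- Q is noetherian
  haveI : IsNoetherianRing A := IsNoetherianRing.of_finite R A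
  haveI : IsNoetherianRing Q := inferInstance
  have hfg : (RingHom.ker εQ).FG := IsNoetherian.noetherian _
  obtain ⟨e', he', hker⟩ := (Ideal.isIdempotentElem_iff_of_fg _ hfg).mp (by
    change RingHom.ker εQ * RingHom.ker εQ = RingHom.ker εQ
    rw [← pow_two, h1])
  have he'0 : e' = 0 := by
    rcases IsLocalRing.isUnit_or_isUnit_one_sub_self e' with hu | hu
    · exfalso
      have : RingHom.ker εQ = ⊤ := by
        rw [hker]
        exact Ideal.span_singleton_eq_top.mpr hu
      exact RingHom.ker_ne_top _ this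
    · have h0 : (1 - e') * e' = (1 - e') * 0 := by
        rw [mul_zero, sub_mul, one_mul, he'.eq, sub_self]
      exact hu.mul_left_cancel h0
  have hker0 : RingHom.ker εQ = ⊥ := by
    rw [hker, he'0]
    exact Ideal.span_singleton_eq_bot.mpr rfl
  have h2 : Ideal.Quotient.mk (J ⊔ K) (a - algebraMap R A (Bialgebra.counitAlgHom R A a)) ∈
      RingHom.ker εQ := by
    rw [RingHom.mem_ker, hεQ, map_sub, AlgHom.commutes]
    simp
  rw [hker0, Ideal.mem_bot, Ideal.Quotient.eq_zero_iff_mem] at h2
  exact h2

theorem unitComponent_bijective [Module.Flat A'' A] [IsLocalRing A'']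
    (hε : (Bialgebra.counitAlgHom R A).comp (IsScalarTower.toAlgHom R A'' A) =
      Bialgebra.counitAlgHom R A'')
    [Algebra.FormallyUnramified R
      (A ⧸ (RingHom.ker (Bialgebra.counitAlgHom R A'')).map (algebraMap A'' A))]
    (e : A) (he : IsIdempotentElem e) (heε : Bialgebra.counitAlgHom R A e = 1)
    [IsLocalRing (A ⧸ Ideal.span ({1 - e} : Set A))] :
    Function.Bijective (algebraMap A'' (A ⧸ Ideal.span ({1 - e} : Set A))) := by
  set K := Ideal.span ({1 - e} : Set A) with hKdef
  set I'' := RingHom.ker (Bialgebra.counitAlgHom R A'') with hI''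
  set J := I''.map (algebraMap A'' A) with hJ
  have hK : K ≤ RingHom.ker (Bialgebra.counitAlgHom R A) := by
    rw [hKdef, Ideal.span_le, Set.singleton_subset_iff]
    change 1 - e ∈ RingHom.ker (Bialgebra.counitAlgHom R A)
    rw [RingHom.mem_ker, map_sub, map_one, heε, sub_self]
  haveI : Module.Finite R (A ⧸ K) := Module.Finite.of_surjective
    ((Ideal.Quotient.mkₐ R K).toLinearMap) (Ideal.Quotient.mkₐ_surjective R K)
  haveI : Module.Finite A'' (A ⧸ K) := Module.Finite.of_restrictScalars_finite R A'' (A ⧸ K)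
  refine ⟨?_, ?_⟩
  · -- injective: A ⧸ K is a nonzero finite flat module over the local ring A''
    haveI : IsLocalization.Away e (A ⧸ K) := IsLocalization.Away.quotient_of_isIdempotentElem he
    haveI : Module.Flat A (A ⧸ K) := IsLocalization.flat (A ⧸ K) (Submonoid.powers e)
    haveI : Module.Flat A'' (A ⧸ K) := Module.Flat.trans A'' A (A ⧸ K)
    haveI : Module.Free A'' (A ⧸ K) := Module.free_of_flat_of_isLocalRing
    exact FaithfulSMul.algebraMap_injective A'' (A ⧸ K)
  · -- surjective: Nakayama
    have hI''m : I'' ≤ IsLocalRing.maximalIdeal A'' :=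
      IsLocalRing.le_maximalIdeal (RingHom.ker_ne_top _)
    let N : Submodule A'' (A ⧸ K) := LinearMap.range (Algebra.linearMap A'' (A ⧸ K))
    have hN : (⊤ : Submodule A'' (A ⧸ K)) ≤ N := by
      apply Submodule.le_of_le_smul_of_le_jacobson_bot (I := IsLocalRing.maximalIdeal A'')
        Module.Finite.fg_top
      · rw [IsLocalRing.jacobson_eq_maximalIdeal ⊥ bot_ne_top]
      · intro x _
        obtain ⟨a, rfl⟩ := Ideal.Quotient.mk_surjective x
        have hmem := sub_counit_mem_sup R A A'' hε K hK a
        obtain ⟨j, hj, κ, hκ, hjk⟩ := Submodule.mem_sup.mp hmem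
        have ha : a = algebraMap R A (Bialgebra.counitAlgHom R A a) + j + κ := by
          rw [add_assoc, hjk]; ring
        rw [ha, map_add, map_add, Ideal.Quotient.eq_zero_iff_mem.mpr hκ, add_zero]
        refine Submodule.add_mem_sup ?_ ?_
        · refine ⟨algebraMap R A'' (Bialgebra.counitAlgHom R A a), ?_⟩
          change algebraMap A'' (A ⧸ K) (algebraMap R A'' _) = _
          rw [← IsScalarTower.algebraMap_apply R A'' (A ⧸ K),
            IsScalarTower.algebraMap_apply R A (A ⧸ K)]
          rfl
        · -- mk j ∈ m • ⊤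
          have h1 : (J.restrictScalars A'' : Submodule A'' A) = I'' • ⊤ :=
            (Ideal.smul_top_eq_map I'').symm
          have hj' : j ∈ (I'' • ⊤ : Submodule A'' A) := by
            rw [← h1]; exact hj
          let π : A →ₗ[A''] (A ⧸ K) := (Ideal.Quotient.mkₐ A'' K).toLinearMap
          have h2 : π j ∈ Submodule.map π (I'' • ⊤ : Submodule A'' A) :=
            Submodule.mem_map_of_mem hj'
          rw [Submodule.map_smul''] at h2
          exact Submodule.smul_mono hI''m le_top h2
    intro x
    obtain ⟨c, hc⟩ := hN (Submodule.mem_top : x ∈ ⊤)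
    exact ⟨c, hc⟩

end

end Groth.Agent.H78.HopfExt
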